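import Mathlib

/-! A family of subfields of finite codegree containing `k^p` with intersection `k^p`. -/

universe u
set_option autoImplicit false

noncomputable section

namespace Groth.Agent.FrobCofinite

variable (p : ℕ) [Fact p.Prime] {k : Type u} [Field k] [CharP k p]

/-- the set of p-th powers -/
def P (k : Type u) [Field k] : Set k := Set.range fun x : k => x ^ p

theorem isIntegral_of_pow_mem (L : Subfield k) {x : k} (hx : x ^ p ∈ L) : IsIntegral L x :=
  IsIntegral.of_pow (Fact.out : p.Prime).pos (isIntegral_algebraMap (R := L) (x := ⟨x ^ p, hx⟩))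

theorem finrank_adjoin (L : Subfield k) {x : k} (hx : x ^ p ∈ L) (hx' : x ∉ L) :
    Module.finrank L (IntermediateField.adjoin L {x}) = p := by
  have hp := (Fact.out : p.Prime)
  have hirr : Irreducible (Polynomial.X ^ p - Polynomial.C (⟨x ^ p, hx⟩ : L)) :=
    X_pow_sub_C_irreducible_of_prime hp fun b hb => hx' (by
      have : (b : k) ^ p = x ^ p := congrArg Subtype.val hb
      exact frobenius_inj k p this ▸ b.2)
  have hmin : Polynomial.X ^ p - Polynomial.C (⟨x ^ p, hx⟩ : L) = minpoly L x :=
    minpoly.eq_of_irreducible_of_monic hirr (by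
      simp only [map_sub, map_pow, Polynomial.aeval_X, Polynomial.aeval_C]; exact sub_self _)
      (Polynomial.monic_X_pow_sub_C _ hp.ne_zero)
  rw [IntermediateField.adjoin.finrank (isIntegral_of_pow_mem p L hx), ← hmin,
    Polynomial.natDegree_X_pow_sub_C]

theorem exchange (s : Set k) (hs : P p k ⊆ s) {x b : k} (hx : x ∉ Subfield.closure s)
    (hxb : x ∈ Subfield.closure (insert b s)) : b ∈ Subfield.closure (insert x s) := by
  let L := Subfield.closure s
  have hb : b ∉ L := fun h => hx ((Subfield.closure_le.mpr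
    (Set.insert_subset h Subfield.subset_closure)) hxb)
  have hpow : ∀ y : k, y ^ p ∈ L := fun y => Subfield.subset_closure (hs ⟨y, rfl⟩)
  haveI := IntermediateField.adjoin.finiteDimensional (isIntegral_of_pow_mem p L (hpow b))
  have hle : IntermediateField.adjoin L {x} ≤ IntermediateField.adjoin L {b} := by
    rw [IntermediateField.adjoin_simple_le_iff]
    refine (Subfield.closure_le (t := (IntermediateField.adjoin L {b}).toSubfield)).mpr ?_ hxb
    exact Set.insert_subset (IntermediateField.mem_adjoin_simple_self L b) fun y hy =>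
      (IntermediateField.adjoin L {b}).algebraMap_mem ⟨y, Subfield.subset_closure hy⟩
  have heq := IntermediateField.eq_of_le_of_finrank_eq hle
    ((finrank_adjoin p L (hpow x) hx).trans (finrank_adjoin p L (hpow b) hb).symm)
  have hbx : b ∈ IntermediateField.adjoin L {x} := heq ▸ IntermediateField.mem_adjoin_simple_self L b
  refine (Subfield.closure_le (t := Subfield.closure (insert x s))).mpr ?_
    (show b ∈ Subfield.closure (Set.range (algebraMap L k) ∪ {x}) from hbx)
  rintro y (⟨z, rfl⟩ | rfl)
  · exact Subfield.closure_mono (Set.subset_insert _ _) z.2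
  · exact Subfield.subset_closure (Set.mem_insert _ _)

theorem exists_finset {Q B : Set k} {x : k} (hx : x ∈ Subfield.closure (Q ∪ B)) :
    ∃ t : Finset k, ↑t ⊆ B ∧ x ∈ Subfield.closure (Q ∪ ↑t) := by
  classical
  induction hx using Subfield.closure_induction with
  | mem y hy =>
    rcases hy with hy | hy
    · exact ⟨∅, by simp, Subfield.subset_closure (Or.inl hy)⟩
    · exact ⟨{y}, by simpa using hy, Subfield.subset_closure (Or.inr (by simp))⟩
  | one => exact ⟨∅, by simp, one_mem _⟩
  | add y z _ _ hy hz =>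
    obtain ⟨t, ht, hy⟩ := hy
    obtain ⟨u, hu, hz⟩ := hz
    refine ⟨t ∪ u, by simp [ht, hu], add_mem (Subfield.closure_mono ?_ hy) (Subfield.closure_mono ?_ hz)⟩
    · exact Set.union_subset_union_right _ (by simp)
    · exact Set.union_subset_union_right _ (by simp)
  | neg y _ hy => obtain ⟨t, ht, hy⟩ := hy; exact ⟨t, ht, neg_mem hy⟩
  | inv y _ hy => obtain ⟨t, ht, hy⟩ := hy; exact ⟨t, ht, inv_mem hy⟩
  | mul y z _ _ hy hz =>
    obtain ⟨t, ht, hy⟩ := hy
    obtain ⟨u, hu, hz⟩ := hz
    refine ⟨t ∪ u, by simp [ht, hu], mul_mem (Subfield.closure_mono ?_ hy) (Subfield.closure_mono ?_ hz)⟩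
    · exact Set.union_subset_union_right _ (by simp)
    · exact Set.union_subset_union_right _ (by simp)

theorem exists_relPBasis (Q : Set k) (hQ : P p k ⊆ Q) :
    ∃ B : Set k, (∀ b ∈ B, b ∉ Subfield.closure (Q ∪ (B \ {b}))) ∧
    ∀ a : k, a ∈ Subfield.closure (Q ∪ B) := by
  classical
  let 𝒮 : Set (Set k) := {B | ∀ b ∈ B, b ∉ Subfield.closure (Q ∪ (B \ {b}))}
  obtain ⟨B, hB⟩ := zorn_subset 𝒮 fun C hC hchain => by
    refine ⟨⋃₀ C, fun b hb h => ?_, fun s hs => Set.subset_sUnion_of_mem hs⟩
    obtain ⟨t, ht, h⟩ := exists_finset h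
    obtain ⟨s₀, hs₀, hbs₀⟩ := hb
    obtain ⟨s, hs, hsub⟩ := hchain.directedOn.exists_mem_subset_of_finset_subset_biUnion ⟨s₀, hs₀⟩
      (f := id) (s := insert b t) (by
        intro y hy
        rcases Finset.mem_insert.mp hy with rfl | hy
        · exact Set.mem_biUnion (t := fun i => id i) hs₀ hbs₀
        · obtain ⟨s₁, hs₁, hys₁⟩ := (ht hy).1
          exact Set.mem_biUnion (t := fun i => id i) hs₁ hys₁)
    refine hC hs b (hsub (Finset.mem_insert_self _ _)) (Subfield.closure_mono
      (Set.union_subset_union_right _ (show (↑t : Set k) ⊆ s \ {b} from fun y hy => ⟨hsub (Finset.mem_insert_of_mem hy), (ht hy).2⟩)) h)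
  refine ⟨B, hB.1, fun a => ?_⟩
  by_contra ha
  have haB : a ∉ B := fun h => ha (Subfield.subset_closure (Or.inr h))
  have : insert a B ∈ 𝒮 := by
    intro b hb hbc
    rcases hb with rfl | hb
    · refine ha (Subfield.closure_mono (Set.union_subset_union_right _ fun y hy => ?_) hbc)
      exact hy.1.resolve_left hy.2
    · have hba : b ≠ a := fun e => haB (e ▸ hb)
      have h1 : b ∈ Subfield.closure (insert a (Q ∪ (B \ {b}))) := by
        refine Subfield.closure_mono ?_ hbc
        rintro y (hy | ⟨rfl | hy, hyb⟩)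
        · exact Or.inr (Or.inl hy)
        · exact Or.inl rfl
        · exact Or.inr (Or.inr ⟨hy, hyb⟩)
      refine ha (Subfield.closure_mono ?_ (exchange p _ (hQ.trans Set.subset_union_left) (hB.1 b hb) h1))
      rintro y (rfl | hy | hy)
      · exact Or.inr hb
      · exact Or.inl hy
      · exact Or.inr hy.1
  exact haB (hB.eq_of_subset this (Set.subset_insert a B) ▸ Set.mem_insert a B)

theorem mem_closure_of_forall {Q B : Set k} (hQ : P p k ⊆ Q) (hB : ∀ b ∈ B, b ∉ Subfield.closure (Q ∪ (B \ {b})))
    {x : k} : ∀ t : Finset k, ↑t ⊆ B → x ∈ Subfield.closure (Q ∪ ↑t) →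
    (∀ b ∈ B, x ∈ Subfield.closure (Q ∪ (B \ {b}))) → x ∈ Subfield.closure Q := by
  classical
  intro t
  induction t using Finset.induction_on with
  | empty =>
    intro _ hx _
    rw [Finset.coe_empty, Set.union_empty] at hx
    exact hx
  | insert b t hbt ih =>
    intro ht hx hall
    rw [Finset.coe_insert, Set.insert_subset_iff] at ht
    refine ih ht.2 ?_ hall
    by_contra hx'
    rw [Finset.coe_insert, Set.union_insert] at hx
    have := exchange p _ (hQ.trans Set.subset_union_left) hx' hx
    refine hB b ht.1 ((Subfield.closure_le.mpr ?_) this)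
    rintro y (rfl | hy | hy)
    · exact hall b ht.1
    · exact Subfield.subset_closure (Or.inl hy)
    · exact Subfield.subset_closure (Or.inr ⟨ht.2 hy, fun e => hbt ((Set.mem_singleton_iff.mp e) ▸ hy)⟩)

variable (k) in
theorem exists_relFamily (Q : Set k) (hQ : P p k ⊆ Q) :
    ∃ L : Finset k → Subfield k, Antitone L ∧ (∀ i, Q ⊆ L i) ∧ (∀ i, FiniteDimensional (L i) k) ∧
    ∀ x, (∀ i, x ∈ L i) → x ∈ Subfield.closure Q := by
  classical
  obtain ⟨B, hB, hgen⟩ := exists_relPBasis p Q hQ
  refine ⟨fun t => Subfield.closure (Q ∪ (B \ ↑t)), fun a b hab => ?_,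
    fun i x hx => Subfield.subset_closure (Or.inl hx), fun t => ?_, fun x hx => ?_⟩
  · exact Subfield.closure_mono (Set.union_subset_union_right _
      (Set.sdiff_subset_sdiff_right (Finset.coe_subset.mpr hab)))
  · let L := Subfield.closure (Q ∪ (B \ ↑t))
    have htop : IntermediateField.adjoin L (↑t : Set k) = ⊤ := by
      refine eq_top_iff.mpr fun a _ => ?_
      refine (Subfield.closure_le (t := (IntermediateField.adjoin L (↑t : Set k)).toSubfield)).mpr
        ?_ (hgen a)
      rintro y (hy | hy)
      · exact (IntermediateField.adjoin L (↑t : Set k)).algebraMap_mem ⟨y, Subfield.subset_closure (Or.inl hy)⟩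
      · by_cases hyt : y ∈ t
        · exact IntermediateField.subset_adjoin L _ hyt
        · exact (IntermediateField.adjoin L (↑t : Set k)).algebraMap_mem
            ⟨y, Subfield.subset_closure (Or.inr ⟨hy, hyt⟩)⟩
    haveI : FiniteDimensional L (IntermediateField.adjoin L (↑t : Set k)) :=
      IntermediateField.finiteDimensional_adjoin fun y _ =>
        isIntegral_of_pow_mem p L (Subfield.subset_closure (Or.inl (hQ ⟨y, rfl⟩)))
    rw [htop] at this
    exact Module.Finite.equiv IntermediateField.topEquiv.toLinearEquiv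
  · obtain ⟨t, ht, hxt⟩ := exists_finset (hgen x)
    refine mem_closure_of_forall p hQ hB t ht hxt fun b _ => ?_
    have := hx {b}
    simp only [Finset.coe_singleton] at this
    exact this

variable (k) in
theorem exists_family : ∃ (ι : Type u) (_ : Nonempty ι) (L : ι → Subfield k),
    (∀ a b, ∃ c, L c ≤ L a ⊓ L b) ∧ (∀ i x, x ^ p ∈ L i) ∧ (∀ i, FiniteDimensional (L i) k) ∧
    ∀ x, (∀ i, x ∈ L i) → ∃ y, y ^ p = x := by
  classical
  obtain ⟨L, hanti, hQ, hfin, hinf⟩ := exists_relFamily p k (P p k) subset_rfl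
  refine ⟨Finset k, inferInstance, L, fun a b => ⟨a ∪ b, le_inf (hanti Finset.subset_union_left)
    (hanti Finset.subset_union_right)⟩, fun i x => hQ i ⟨x, rfl⟩, hfin, fun x hx => ?_⟩
  exact (Subfield.closure_le (t := (frobenius k p).fieldRange)).mpr (fun y hy => hy) (hinf x hx)

end Groth.Agent.FrobCofinite
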