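import Mathlib

/-! Series in `T^p` over a subfield. -/

universe u
set_option autoImplicit false

noncomputable section

namespace Groth.Agent.FrobCofinite

open MvPowerSeries

variable (p : ℕ) [Fact p.Prime] {k : Type u} [Field k] [CharP k p] {r : ℕ}

/-- `L[[T^p]]` inside `k[[T]]` -/
def A (L : Subfield k) : Subring (MvPowerSeries (Fin r) k) :=
  ((MvPowerSeries.map L.subtype).comp
    (expand (σ := Fin r) (R := L) p (Fact.out : p.Prime).ne_zero).toRingHom).range

omit [CharP k p] in
theorem mem_A_iff (L : Subfield k) (f : MvPowerSeries (Fin r) k) :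
    f ∈ A p L ↔ ∀ n, coeff n f ∈ L ∧ ((∃ i, ¬ p ∣ n i) → coeff n f = 0) := by
  constructor
  · rintro ⟨g, rfl⟩ n
    refine ⟨?_, fun ⟨i, hi⟩ => ?_⟩
    · rw [RingHom.comp_apply, coeff_map]; exact Subtype.coe_prop _
    · rw [RingHom.comp_apply, coeff_map]
      erw [coeff_expand_of_not_dvd p _ g hi]
      exact map_zero _
  · intro h
    refine ⟨(fun m => (⟨coeff (p • m) f, (h _).1⟩ : L) : MvPowerSeries (Fin r) L),
      MvPowerSeries.ext fun n => ?_⟩
    rw [RingHom.comp_apply, coeff_map]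
    by_cases hn : ∀ i, p ∣ n i
    · obtain ⟨m, rfl⟩ : ∃ m, n = p • m := ⟨n.mapRange (· / p) (Nat.zero_div p), Finsupp.ext fun i => by
        simp [Nat.mul_div_cancel' (hn i)]⟩
      erw [coeff_expand_smul]
      rfl
    · simp only [not_forall] at hn
      obtain ⟨i, hi⟩ := hn
      erw [coeff_expand_of_not_dvd p _ _ hi]
      rw [map_zero, (h n).2 ⟨i, hi⟩]

theorem isNoetherianRing_A (L : Subfield k) : IsNoetherianRing (A (r := r) p L) :=
  isNoetherianRing_range _

omit [CharP k p] in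
theorem A_mono {L L' : Subfield k} (h : L ≤ L') : A (r := r) p L ≤ A p L' := fun f hf =>
  (mem_A_iff p L' f).mpr fun n => ⟨h ((mem_A_iff p L f).mp hf n).1, ((mem_A_iff p L f).mp hf n).2⟩

/-- exponents `< p` -/
def ex (e : Fin r → Fin p) : Fin r →₀ ℕ := Finsupp.equivFunOnFinite.symm fun i => (e i : ℕ)

omit [CharP k p] in
theorem coeff_A_monomial (L : Subfield k) (s : A (r := r) p L) (e e' : Fin r → Fin p) (m : Fin r →₀ ℕ)
    (c : k) : coeff (p • m + ex p e') ((s : MvPowerSeries (Fin r) k) * monomial (ex p e) c) =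
      if e = e' then coeff (p • m) (s : MvPowerSeries (Fin r) k) * c else 0 := by
  classical
  rw [coeff_mul_monomial]
  split_ifs with h1 h2 h2
  · subst h2; rw [add_tsub_cancel_right]
  · obtain ⟨i, hi⟩ : ∃ i, e i ≠ e' i := Function.ne_iff.mp h2
    rw [((mem_A_iff p L _).mp s.2 _).2 ⟨i, fun hd => hi ?_⟩, zero_mul]
    have h1' : (e i : ℕ) ≤ p * m i + (e' i : ℕ) := by simpa [ex] using h1 i
    have hd' : p ∣ p * m i + (e' i : ℕ) - (e i : ℕ) := by simpa [ex] using hd
    have h3 : (e i : ℕ) % p = (p * m i + (e' i : ℕ)) % p :=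
      (Nat.modEq_iff_dvd' h1').mpr hd'
    rw [Nat.mul_add_mod, Nat.mod_eq_of_lt (e i).2, Nat.mod_eq_of_lt (e' i).2] at h3
    exact Fin.ext h3
  · subst h2; exact absurd le_add_self h1
  · rfl

omit [CharP k p] in
theorem exists_eq (n : Fin r →₀ ℕ) : ∃ (m : Fin r →₀ ℕ) (e : Fin r → Fin p), n = p • m + ex p e :=
  ⟨n.mapRange (· / p) (Nat.zero_div p), fun i => ⟨n i % p, Nat.mod_lt _ (Fact.out : p.Prime).pos⟩,
    Finsupp.ext fun i => by simp [ex, Nat.div_add_mod]⟩

omit [CharP k p] in
theorem free_finite (L : Subfield k) [FiniteDimensional L k] :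
    Module.Free (A (r := r) p L) (MvPowerSeries (Fin r) k) ∧
      Module.Finite (A (r := r) p L) (MvPowerSeries (Fin r) k) := by
  classical
  let b := Module.finBasis L k
  let v : Fin (Module.finrank L k) × (Fin r → Fin p) → MvPowerSeries (Fin r) k :=
    fun i => monomial (ex p i.2) (b i.1)
  let φ := Fintype.linearCombination (A (r := r) p L) v
  have hφ : ∀ g (m : Fin r →₀ ℕ) (e' : Fin r → Fin p), coeff (p • m + ex p e') (φ g) =
      ∑ j, (⟨coeff (p • m) (g (j, e') : MvPowerSeries (Fin r) k),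
        ((mem_A_iff p L _).mp (g (j, e')).2 _).1⟩ : L) • b j := by
    intro g m e'
    rw [Fintype.linearCombination_apply, map_sum, Fintype.sum_prod_type]
    refine Finset.sum_congr rfl fun j _ => ?_
    simp only [v, Subring.smul_def, smul_eq_mul, coeff_A_monomial, Finset.sum_ite_eq',
      Finset.mem_univ, if_true]
    rfl
  have hbij : Function.Bijective φ := by
    refine ⟨(injective_iff_map_eq_zero φ).mpr fun g hg => ?_, fun f => ?_⟩
    · funext ⟨j, e'⟩
      refine Subtype.ext (MvPowerSeries.ext fun n => ?_)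
      show coeff n (g (j, e') : MvPowerSeries (Fin r) k) = coeff n 0
      rw [map_zero]
      by_cases hn : ∀ i, p ∣ n i
      · obtain ⟨m, rfl⟩ : ∃ m, n = p • m := ⟨n.mapRange (· / p) (Nat.zero_div p),
          Finsupp.ext fun i => by simp [Nat.mul_div_cancel' (hn i)]⟩
        have h := hφ g m e'
        rw [hg, map_zero] at h
        exact congrArg Subtype.val (Fintype.linearIndependent_iff.mp b.linearIndependent _ h.symm j)
      · simp only [not_forall] at hn
        exact ((mem_A_iff p L _).mp (g (j, e')).2 n).2 hn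
    · let G : Fin (Module.finrank L k) × (Fin r → Fin p) → A (r := r) p L := fun i =>
        ⟨(fun n => if ∀ l, p ∣ n l then (b.repr (coeff (n + ex p i.2) f) i.1 : k) else 0),
          (mem_A_iff p L _).mpr fun n => ⟨by rw [coeff_apply]; split_ifs; exacts [Subtype.coe_prop _, zero_mem _],
            fun ⟨l, hl⟩ => by rw [coeff_apply, if_neg fun h => hl (h l)]⟩⟩
      refine ⟨G, MvPowerSeries.ext fun n => ?_⟩
      obtain ⟨m, e', rfl⟩ := exists_eq p n
      rw [hφ]
      conv_rhs => rw [← b.sum_repr (coeff (p • m + ex p e') f)]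
      refine Finset.sum_congr rfl fun j _ => ?_
      congr 1
      refine Subtype.ext ?_
      show coeff (p • m) (G (j, e') : MvPowerSeries (Fin r) k) = _
      simp only [G, coeff_apply]
      rw [if_pos fun l => by simp]
  let eqv := LinearEquiv.ofBijective φ hbij
  exact ⟨Module.Free.of_equiv eqv, Module.Finite.equiv eqv⟩

omit [CharP k p] in
theorem mem_A_of_mul_mem (L : Subfield k) {g b : MvPowerSeries (Fin r) k} (hb : b ∈ A p L)
    (hab : g * b ∈ A p L) (hb0 : b ≠ 0) : g ∈ A p L := by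
  classical
  obtain ⟨π, hπ⟩ := LinearMap.exists_leftInverse_of_injective (Algebra.linearMap L k)
    (LinearMap.ker_eq_bot.mpr (algebraMap L k).injective)
  have hπ' : ∀ c : L, π (c : k) = c := fun c => LinearMap.congr_fun hπ c
  let g' : MvPowerSeries (Fin r) k := fun n =>
    if ∀ i, p ∣ n i then ((π (coeff n g) : L) : k) else 0
  have hg' : g' ∈ A p L := (mem_A_iff p L _).mpr fun n =>
    ⟨by rw [coeff_apply]; simp only [g']; split_ifs; exacts [Subtype.coe_prop _, zero_mem _],
      fun ⟨i, hi⟩ => by rw [coeff_apply]; exact if_neg fun h => hi (h i)⟩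
  suffices g' = g from this ▸ hg'
  refine mul_right_cancel₀ hb0 (MvPowerSeries.ext fun n => ?_)
  have hB := (mem_A_iff p L b).mp hb
  have hG := (mem_A_iff p L (g * b)).mp hab n
  by_cases hn : ∀ i, p ∣ n i
  · rw [show coeff n (g * b) = ((π (coeff n (g * b)) : L) : k) from
      (congrArg Subtype.val (hπ' ⟨_, hG.1⟩)).symm, coeff_mul, coeff_mul, map_sum,
      AddSubmonoidClass.coe_finsetSum]
    refine Finset.sum_congr rfl fun x hx => ?_
    rw [Finset.HasAntidiagonal.mem_antidiagonal] at hx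
    by_cases hx2 : ∀ i, p ∣ x.2 i
    · have hx1 : ∀ i, p ∣ x.1 i := fun i => (Nat.dvd_add_left (hx2 i)).mp (by
        have := hn i; rw [← hx] at this; simpa using this)
      have : coeff x.1 g * coeff x.2 b = (⟨coeff x.2 b, (hB _).1⟩ : L) • coeff x.1 g := mul_comm _ _
      rw [this, map_smul, show coeff x.1 g' = ((π (coeff x.1 g) : L) : k) from if_pos hx1]
      exact mul_comm _ _
    · simp only [not_forall] at hx2
      rw [(hB _).2 hx2, mul_zero, mul_zero, map_zero]; rfl
  · simp only [not_forall] at hn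
    rw [hG.2 hn, ((mem_A_iff p L _).mp ((A p L).mul_mem hg' hb) n).2 hn]

theorem pow_mem_A (L : Subfield k) (hL : ∀ x, x ^ p ∈ L) (f : MvPowerSeries (Fin r) k) :
    f ^ p ∈ A p L := by
  refine (mem_A_iff p L _).mpr fun n => ?_
  rw [← map_frobenius_expand p (Fact.out : p.Prime).ne_zero, coeff_map]
  refine ⟨hL _, fun ⟨i, hi⟩ => ?_⟩
  rw [coeff_expand_of_not_dvd p _ f hi, map_zero]

theorem exists_pow_eq {ι : Type*} [Nonempty ι] (L : ι → Subfield k)
    (hinf : ∀ x, (∀ i, x ∈ L i) → ∃ y, y ^ p = x)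
    (f : MvPowerSeries (Fin r) k) (hf : ∀ i, f ∈ A p (L i)) : ∃ g, g ^ p = f := by
  choose c hc using fun m : Fin r →₀ ℕ => hinf (coeff (p • m) f) fun i => ((mem_A_iff p (L i) f).mp (hf i) _).1
  refine ⟨fun m => c m, MvPowerSeries.ext fun n => ?_⟩
  rw [← map_frobenius_expand p (Fact.out : p.Prime).ne_zero, coeff_map]
  by_cases hn : ∀ i, p ∣ n i
  · obtain ⟨m, rfl⟩ : ∃ m, n = p • m := ⟨n.mapRange (· / p) (Nat.zero_div p),
      Finsupp.ext fun i => by simp [Nat.mul_div_cancel' (hn i)]⟩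
    rw [coeff_expand_smul]
    exact hc m
  · simp only [not_forall] at hn
    obtain ⟨i, hi⟩ := hn
    rw [coeff_expand_of_not_dvd p _ _ hi, map_zero,
      ((mem_A_iff p (L (Classical.arbitrary ι)) f).mp (hf _) n).2 ⟨i, hi⟩]

theorem iInf_closure_eq {ι : Type*} [Nonempty ι] (L : ι → Subfield k) (hL : ∀ i x, x ^ p ∈ L i)
    (hinf : ∀ x, (∀ i, x ∈ L i) → ∃ y, y ^ p = x) :
    ((⨅ i, Subfield.closure (algebraMap (MvPowerSeries (Fin r) k) (FractionRing (MvPowerSeries (Fin r) k)) ''
      (A (r := r) p (L i)))) : Set (FractionRing (MvPowerSeries (Fin r) k))) =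
      Set.range fun x : FractionRing (MvPowerSeries (Fin r) k) => x ^ p := by
  have hcl : ∀ i x, x ∈ Subfield.closure (algebraMap (MvPowerSeries (Fin r) k)
      (FractionRing (MvPowerSeries (Fin r) k)) '' (A (r := r) p (L i))) ↔
      ∃ a ∈ A (r := r) p (L i), ∃ b ∈ A (r := r) p (L i),
        algebraMap (MvPowerSeries (Fin r) k) _ a / algebraMap (MvPowerSeries (Fin r) k) _ b = x := by
    intro i x
    rw [Subfield.mem_closure_iff, ← RingHom.map_closure, Subring.closure_eq]
    constructor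
    · rintro ⟨y, ⟨a, ha, rfl⟩, z, ⟨b, hb, rfl⟩, rfl⟩; exact ⟨a, ha, b, hb, rfl⟩
    · rintro ⟨a, ha, b, hb, rfl⟩; exact ⟨_, ⟨a, ha, rfl⟩, _, ⟨b, hb, rfl⟩, rfl⟩
  have inj := IsFractionRing.injective (MvPowerSeries (Fin r) k) (FractionRing (MvPowerSeries (Fin r) k))
  ext x
  simp only [Set.iInf_eq_iInter, Subfield.coe_iInf, Set.mem_iInter, Set.mem_range, SetLike.mem_coe]
  obtain ⟨g, h, hh, rfl⟩ := IsFractionRing.div_surjective (MvPowerSeries (Fin r) k) x
  have hh0 : h ≠ 0 := nonZeroDivisors.ne_zero hh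
  constructor
  · intro hx
    let G := g * h ^ (p - 1)
    have hq' : h * h ^ (p - 1) = h ^ p := by
      rw [← pow_succ', Nat.sub_add_cancel (Fact.out : p.Prime).one_le]
    have hxG : algebraMap (MvPowerSeries (Fin r) k) (FractionRing (MvPowerSeries (Fin r) k)) g /
        algebraMap _ _ h = algebraMap _ _ G / algebraMap _ _ (h ^ p) := by
      simp only [G]
      rw [← hq', map_mul, map_mul, mul_div_mul_right]
      exact (map_ne_zero_iff _ inj).mpr (pow_ne_zero _ hh0)
    have hG : ∀ i, G ∈ A p (L i) := by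
      intro i
      have hxi := hx i
      rw [hxG] at hxi
      obtain ⟨a, ha, b, hb, hab⟩ := (hcl i _).mp hxi
      by_cases hb0 : b = 0
      · rw [hb0, map_zero, div_zero, eq_comm, div_eq_zero_iff] at hab
        rcases hab with h0 | h0
        · rw [inj (h0.trans (map_zero _).symm)]; exact zero_mem _
        · exact absurd (inj (h0.trans (map_zero _).symm)) (pow_ne_zero _ hh0)
      · rw [div_eq_div_iff ((map_ne_zero_iff _ inj).mpr hb0)
          ((map_ne_zero_iff _ inj).mpr (pow_ne_zero _ hh0)), ← map_mul, ← map_mul] at hab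
        refine mem_A_of_mul_mem p (L i) hb ?_ hb0
        rw [← inj hab]
        exact mul_mem ha (pow_mem_A p (L i) (hL i) h)
    obtain ⟨G₀, hG₀⟩ := exists_pow_eq p L hinf G hG
    exact ⟨algebraMap _ _ G₀ / algebraMap _ _ h, by rw [div_pow, ← map_pow, ← map_pow, hG₀, hxG]⟩
  · rintro ⟨y, hy⟩ i
    obtain ⟨g', h', -, rfl⟩ := IsFractionRing.div_surjective (MvPowerSeries (Fin r) k) y
    rw [div_pow, ← map_pow, ← map_pow] at hy
    exact (hcl i _).mpr ⟨_, pow_mem_A p (L i) (hL i) g', _, pow_mem_A p (L i) (hL i) h', hy⟩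

end Groth.Agent.FrobCofinite
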